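import Groth.Agent.Lib.ExtCech.Cocone
import Groth.Agent.Lib.LocalCoh.Away
import Groth.Agent.Lib.LocalCoh.Torsion

/-!
# The extended Čech complex: functoriality, acyclicity, degree zero
-/

universe u

open CategoryTheory CategoryTheory.Limits CochainComplex

namespace Groth.Agent.Lib.ExtCech

variable {R : Type u} [CommRing R]

section Loc

variable (S : Submonoid R)

lemma locFunctor_map_injective {M N : ModuleCat.{u} R} (g : M ⟶ N)
    (hg : Function.Injective g.hom) : Function.Injective ((DerCA.locFunctor S).map g).hom :=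
  IsLocalizedModule.map_injective S (LocalizedModule.mkLinearMap S M)
    (LocalizedModule.mkLinearMap S N) g.hom hg

lemma locFunctor_map_surjective {M N : ModuleCat.{u} R} (g : M ⟶ N)
    (hg : Function.Surjective g.hom) : Function.Surjective ((DerCA.locFunctor S).map g).hom :=
  IsLocalizedModule.map_surjective S (LocalizedModule.mkLinearMap S M)
    (LocalizedModule.mkLinearMap S N) g.hom hg

lemma locFunctor_map_exact {M N P : ModuleCat.{u} R} (g : M ⟶ N) (g' : N ⟶ P)
    (h : Function.Exact g.hom g'.hom) :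
    Function.Exact ((DerCA.locFunctor S).map g).hom ((DerCA.locFunctor S).map g').hom :=
  IsLocalizedModule.map_exact S (LocalizedModule.mkLinearMap S M)
    (LocalizedModule.mkLinearMap S N) (LocalizedModule.mkLinearMap S P) g.hom g'.hom h

lemma subsingleton_loc {M : ModuleCat.{u} R} (h : Subsingleton M) :
    Subsingleton ((DerCA.locFunctor S).obj M) :=
  inferInstanceAs (Subsingleton (LocalizedModule S M))

lemma locUnit_eq_zero_iff {M : ModuleCat.{u} R} (x : M) :
    ((DerCA.locUnit S).app M).hom x = 0 ↔ ∃ c ∈ S, c • x = 0 := by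
  refine (IsLocalizedModule.eq_zero_iff S (LocalizedModule.mkLinearMap S M)).trans ?_
  exact ⟨fun ⟨c, hc⟩ => ⟨c, c.2, hc⟩, fun ⟨c, hc, h⟩ => ⟨⟨c, hc⟩, h⟩⟩

lemma locUnit_bijective {f : R} {M : ModuleCat.{u} R} (hf : Function.Bijective fun m : M => f • m) :
    Function.Bijective ((DerCA.locUnit (Submonoid.powers f)).app M).hom := by
  have hn : ∀ n : ℕ, Function.Bijective fun m : M => f ^ n • m := by
    intro n
    induction n with
    | zero => simp only [pow_zero, one_smul]; exact Function.bijective_id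
    | succ k ih => simp only [pow_succ, mul_smul]; exact ih.comp hf
  refine ⟨(injective_iff_map_eq_zero _).2 fun x hx => ?_, fun y => ?_⟩
  · obtain ⟨c, ⟨n, rfl⟩, hc⟩ := (locUnit_eq_zero_iff _ x).1 hx
    exact (hn n).1 (hc.trans (smul_zero (f ^ n : R)).symm)
  · induction y using LocalizedModule.induction_on with
    | h m s =>
      obtain ⟨n, hs⟩ := s.2
      obtain ⟨m', hm'⟩ := (hn n).2 m
      refine ⟨m', LocalizedModule.mk_eq.2 ⟨1, ?_⟩⟩
      simp only [Submonoid.smul_def, one_smul]
      rw [← hs]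
      exact hm'

lemma smul_bijective_loc {f : R} {M : ModuleCat.{u} R}
    (hf : Function.Bijective fun m : M => f • m) :
    Function.Bijective fun m : (DerCA.locFunctor S).obj M => f • m := by
  let g : M ⟶ M := f • 𝟙 M
  have e : ∀ m : (DerCA.locFunctor S).obj M, ((DerCA.locFunctor S).map g).hom m = f • m := by
    intro m
    induction m using LocalizedModule.induction_on with
    | h a s =>
      show IsLocalizedModule.map S (LocalizedModule.mkLinearMap S M)
        (LocalizedModule.mkLinearMap S M) g.hom (LocalizedModule.mk a s) = _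
      have : g.hom = f • LinearMap.id := rfl
      rw [this, map_smul, LinearMap.smul_apply, IsLocalizedModule.map_id]
      rfl
  have h1 := locFunctor_map_injective S g hf.1
  have h2 := locFunctor_map_surjective S g hf.2
  exact ⟨fun a b h => h1 ((e a).trans (h.trans (e b).symm)),
    fun b => let ⟨a, ha⟩ := h2 b; ⟨a, (e a).symm.trans ha⟩⟩

lemma smul_bijective_loc_self (f : R) (M : ModuleCat.{u} R) :
    Function.Bijective fun m : (DerCA.locFunctor (Submonoid.powers f)).obj M => f • m :=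
  (Module.End.isUnit_iff _).1
    (IsLocalizedModule.map_units (LocalizedModule.mkLinearMap (Submonoid.powers f) M)
      ⟨f, Submonoid.mem_powers f⟩)

lemma locCxUnit_natural {K K' : DRing.Cx R} (g : K ⟶ K') :
    DerCA.locCxUnit S K ≫ (DerCA.locCx S).map g = g ≫ DerCA.locCxUnit S K' := by
  ext n : 1
  exact ((DerCA.locUnit S).naturality (g.f n)).symm

lemma subsingleton_locX {K : DRing.Cx R} {n : ℤ} (h : Subsingleton (K.X n)) :
    Subsingleton (((DerCA.locCx S).obj K).X n) := subsingleton_loc S h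

end Loc

lemma coconeMap_id {K L : DRing.Cx R} (φ : K ⟶ L) (a : K ⟶ K) (b : L ⟶ L) (comm : φ ≫ b = a ≫ φ)
    (ha : a = 𝟙 K) (hb : b = 𝟙 L) : coconeMap φ φ a b comm = 𝟙 (mappingCocone φ) := by
  subst ha hb
  exact (congrArg (CategoryTheory.shiftFunctor (DRing.Cx R) (-1 : ℤ)).map (mappingCone.map_id φ)).trans
    (CategoryTheory.Functor.map_id _ _)

lemma coconeMap_comp {K L K' L' K'' L'' : DRing.Cx R} (φ : K ⟶ L) (φ' : K' ⟶ L') (φ'' : K'' ⟶ L'')
    (a : K ⟶ K') (b : L ⟶ L') (comm : φ ≫ b = a ≫ φ') (a' : K' ⟶ K'') (b' : L' ⟶ L'')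
    (comm' : φ' ≫ b' = a' ≫ φ'') (c : K ⟶ K'') (d : L ⟶ L'') (comm'' : φ ≫ d = c ≫ φ'')
    (hc : c = a ≫ a') (hd : d = b ≫ b') :
    coconeMap φ φ'' c d comm'' = coconeMap φ φ' a b comm ≫ coconeMap φ' φ'' a' b' comm' := by
  subst hc hd
  exact (congrArg (CategoryTheory.shiftFunctor (DRing.Cx R) (-1 : ℤ)).map
    (mappingCone.map_comp φ φ' φ'' a b comm a' b' comm')).trans (Functor.map_comp _ _ _)

/-- The maps of extended Čech complexes. -/
noncomputable def cechMap {M N : ModuleCat.{u} R} (g : M ⟶ N) :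
    ∀ fs : List R, DerCA.extCech M fs ⟶ DerCA.extCech N fs
  | [] => (HomologicalComplex.single (ModuleCat.{u} R) (ComplexShape.up ℤ) 0).map g
  | f :: fs => coconeMap _ _ (cechMap g fs) ((DerCA.locCx (Submonoid.powers f)).map (cechMap g fs))
      (locCxUnit_natural _ _)

lemma cechMap_id (M : ModuleCat.{u} R) : ∀ fs : List R, cechMap (𝟙 M) fs = 𝟙 _
  | [] => (HomologicalComplex.single (ModuleCat.{u} R) (ComplexShape.up ℤ) 0).map_id M
  | f :: fs => coconeMap_id _ _ _ _ (cechMap_id M fs)
      ((congrArg _ (cechMap_id M fs)).trans (CategoryTheory.Functor.map_id _ _))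

lemma cechMap_comp {M N P : ModuleCat.{u} R} (g : M ⟶ N) (g' : N ⟶ P) :
    ∀ fs : List R, cechMap (g ≫ g') fs = cechMap g fs ≫ cechMap g' fs
  | [] => (HomologicalComplex.single (ModuleCat.{u} R) (ComplexShape.up ℤ) 0).map_comp g g'
  | f :: fs => coconeMap_comp _ _ _ _ _ _ _ _ _ _ _ _ (cechMap_comp g g' fs)
      ((congrArg _ (cechMap_comp g g' fs)).trans (Functor.map_comp _ _ _))

/-- The extended Čech complex, as a functor. -/
noncomputable def cechFunctor (fs : List R) : ModuleCat.{u} R ⥤ DRing.Cx R where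
  obj M := DerCA.extCech M fs
  map g := cechMap g fs
  map_id M := cechMap_id M fs
  map_comp g g' := cechMap_comp g g' fs

lemma subsingleton_X_of_neg (M : ModuleCat.{u} R) :
    ∀ (fs : List R) (n : ℤ), n < 0 → Subsingleton ((DerCA.extCech M fs).X n)
  | [], n, hn => ModuleCat.subsingleton_of_isZero
      (HomologicalComplex.isZero_single_obj_X _ _ _ _ (by omega))
  | f :: fs, n, hn => ⟨fun x y => by
      have := subsingleton_X_of_neg M fs n hn
      have := subsingleton_locX (Submonoid.powers f) (subsingleton_X_of_neg M fs (n + -1) (by omega))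
      exact cocone_ext (DerCA.locCxUnit (Submonoid.powers f) (DerCA.extCech M fs)) n (n + -1) rfl
        (Subsingleton.elim _ _) (Subsingleton.elim _ _)⟩

lemma subsingleton_X_nil (M : ModuleCat.{u} R) (n : ℤ) (hn : n ≠ 0) :
    Subsingleton ((DerCA.extCech M []).X n) :=
  ModuleCat.subsingleton_of_isZero (HomologicalComplex.isZero_single_obj_X _ _ _ _ hn)

lemma smul_bijective_X (M : ModuleCat.{u} R) {b : R} (hb : Function.Bijective fun m : M => b • m) :
    ∀ (fs : List R) (n : ℤ), Function.Bijective fun x : (DerCA.extCech M fs).X n => b • x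
  | [], n => by
    by_cases hn : n = 0
    · subst hn
      let e := (HomologicalComplex.singleObjXSelf (ComplexShape.up ℤ) 0 M).toLinearEquiv
      refine ⟨fun x y h => e.injective (hb.1 ?_), fun y => ?_⟩
      · exact (map_smul e b x).symm.trans ((congrArg e h).trans (map_smul e b y))
      · obtain ⟨m, hm⟩ := hb.2 (e y)
        exact ⟨e.symm m, e.injective ((map_smul e b _).trans (by simpa using hm))⟩
    · have := subsingleton_X_nil M n hn
      exact ⟨fun _ _ _ => Subsingleton.elim _ _, fun y => ⟨y, Subsingleton.elim _ _⟩⟩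
  | f :: fs, n => by
    have h1 := smul_bijective_X M hb fs n
    have h2 := smul_bijective_loc (Submonoid.powers f) (smul_bijective_X M hb fs (n + -1))
    let φ := DerCA.locCxUnit (Submonoid.powers f) (DerCA.extCech M fs)
    refine ⟨fun x y h => cocone_ext φ n (n + -1) rfl (h1.1 ?_) (h2.1 ?_), fun y => ?_⟩
    · exact (map_smul (cf φ n) b x).symm.trans ((congrArg (cf φ n) h).trans (map_smul _ b y))
    · exact (map_smul (cs φ n _ rfl) b x).symm.trans
        ((congrArg (cs φ n _ rfl) h).trans (map_smul _ b y))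
    · obtain ⟨k, hk⟩ := h1.2 (cf φ n y)
      obtain ⟨l, hl⟩ := h2.2 (cs φ n _ rfl y)
      refine ⟨mkPair φ n _ rfl k l, cocone_ext φ n (n + -1) rfl ?_ ?_⟩
      · exact (map_smul (cf φ n) b _).trans ((congrArg (b • ·) (cf_mkPair φ n _ rfl k l)).trans hk)
      · exact (map_smul (cs φ n _ rfl) b _).trans
          ((congrArg (b • ·) (cs_mkPair φ n _ rfl k l)).trans hl)

/-- Elementwise exactness at a degree. -/
def ExAt (K : DRing.Cx R) (q : ℤ) : Prop :=
  ∀ x : K.X q, (K.d q (q + 1)).hom x = 0 → ∃ y : K.X (q + -1), (K.d (q + -1) q).hom y = x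

lemma exAt_iff (K : DRing.Cx R) (q : ℤ) : ExAt K q ↔ IsZero (K.homology q) := by
  rw [← HomologicalComplex.exactAt_iff_isZero_homology,
    HomologicalComplex.exactAt_iff' K (q + -1) q (q + 1) (by simp; omega) (by simp),
    ShortComplex.moduleCat_exact_iff]
  exact Iff.rfl

lemma exAt_loc (S : Submonoid R) {K : DRing.Cx R} {q : ℤ} (h : ExAt K q) :
    ExAt ((DerCA.locCx S).obj K) q := by
  have he : Function.Exact (K.d (q + -1) q).hom (K.d q (q + 1)).hom := fun x =>
    ⟨fun hx => h x hx, fun ⟨y, hy⟩ => by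
      rw [← hy]
      exact congrArg (fun t : K.X (q + -1) ⟶ K.X (q + 1) => t.hom y) (K.d_comp_d (q + -1) q (q + 1))⟩
  exact fun x hx => ((locFunctor_map_exact S _ _ he) x).1 hx

section ExAt

variable {K L : DRing.Cx R} (φ : K ⟶ L)

lemma φ_d (i j : ℤ) (x : K.X i) : (φ.f j).hom ((K.d i j).hom x) = (L.d i j).hom ((φ.f i).hom x) :=
  (congrArg (fun t => t.hom x) (φ.comm i j)).symm

lemma exAt_cocone_of_bijective (h : ∀ n, Function.Bijective (φ.f n).hom) (q : ℤ) :
    ExAt (mappingCocone φ) q := by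
  intro c hc
  have hq : q + -1 + 1 = q := by omega
  have h1 : (K.d q (q + 1)).hom (cf φ q c) = 0 := by rw [← cf_d, hc, map_zero]
  have h2 := cs_d φ q (q + 1) (q + -1) rfl rfl c
  rw [hc, map_zero] at h2
  obtain ⟨k, hk⟩ := (h (q + -1)).2 (-(cs φ q (q + -1) rfl c))
  refine ⟨mkPair φ (q + -1) (q + -1 + -1) rfl k 0, cocone_ext φ q (q + -1) rfl ?_ ?_⟩
  · rw [cf_d, cf_mkPair]
    refine (h q).1 ?_
    rw [φ_d, hk, map_neg]
    exact neg_eq_iff_eq_neg.2 (sub_eq_zero.1 h2.symm).symm
  · rw [cs_d φ (q + -1) q (q + -1 + -1) hq rfl, cf_mkPair, cs_mkPair, map_zero, sub_zero, hk,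
      neg_neg]

lemma exAt_cocone (q : ℤ) (hK : ExAt K q)
    (hL : ∀ r : L.X (q + -1), (L.d (q + -1) q).hom r = 0 →
      ∃ (a : K.X (q + -1)) (w : L.X (q + -1 + -1)), (K.d (q + -1) q).hom a = 0 ∧
        r = (φ.f (q + -1)).hom a + (L.d (q + -1 + -1) (q + -1)).hom w) :
    ExAt (mappingCocone φ) q := by
  intro c hc
  have hq : q + -1 + 1 = q := by omega
  have h1 : (K.d q (q + 1)).hom (cf φ q c) = 0 := by rw [← cf_d, hc, map_zero]
  have h2 := cs_d φ q (q + 1) (q + -1) rfl rfl c
  rw [hc, map_zero] at h2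
  obtain ⟨k, hk⟩ := hK _ h1
  obtain ⟨a, w, ha, hr⟩ := hL (cs φ q (q + -1) rfl c + (φ.f (q + -1)).hom k) (by
    rw [map_add, ← φ_d, hk, eq_neg_of_add_eq_zero_left
      (show (L.d (q + -1) q).hom (cs φ q (q + -1) rfl c) + (φ.f q).hom (cf φ q c) = 0 by
        rw [← neg_eq_zero, neg_add, add_comm, ← sub_eq_add_neg]; exact h2.symm), neg_add_cancel])
  refine ⟨mkPair φ (q + -1) (q + -1 + -1) rfl (k - a) (-w), cocone_ext φ q (q + -1) rfl ?_ ?_⟩
  · rw [cf_d, cf_mkPair, map_sub, hk, ha, sub_zero]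
  · rw [cs_d φ (q + -1) q (q + -1 + -1) hq rfl, cf_mkPair, cs_mkPair, map_neg, map_sub,
      eq_sub_of_add_eq hr]
    abel

end ExAt

/-- If one of the elements acts bijectively, the extended Čech complex is exact. -/
theorem exAt_of_smul_bijective (M : ModuleCat.{u} R) :
    ∀ (fs : List R) (b : R), b ∈ fs → (Function.Bijective fun m : M => b • m) →
      ∀ q, ExAt (DerCA.extCech M fs) q
  | [], b, hb, _, _ => absurd hb (List.not_mem_nil)
  | f :: fs, b, hb, hbij, q => by
    rcases List.mem_cons.1 hb with rfl | hb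
    · exact exAt_cocone_of_bijective _
        (fun n => locUnit_bijective (smul_bijective_X M hbij fs n)) q
    · refine exAt_cocone _ q (exAt_of_smul_bijective M fs b hb hbij q) fun r hr => ?_
      have h' := exAt_loc (Submonoid.powers f) (exAt_of_smul_bijective M fs b hb hbij (q + -1)) r
      rw [show q + -1 + 1 = q by omega] at h'
      obtain ⟨w, hw⟩ := h' hr
      exact ⟨0, w, map_zero _, by rw [map_zero, zero_add]; exact hw.symm⟩

/-- The augmentation towards the module in degree zero. -/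
noncomputable def aug (M : ModuleCat.{u} R) :
    ∀ fs : List R, DerCA.extCech M fs ⟶
      (HomologicalComplex.single (ModuleCat.{u} R) (ComplexShape.up ℤ) 0).obj M
  | [] => 𝟙 _
  | _ :: fs => mappingCocone.fst _ ≫ aug M fs

lemma aug_natural {M N : ModuleCat.{u} R} (g : M ⟶ N) :
    ∀ fs : List R, cechMap g fs ≫ aug N fs =
      aug M fs ≫ (HomologicalComplex.single (ModuleCat.{u} R) (ComplexShape.up ℤ) 0).map g
  | [] => (Category.comp_id _).trans (Category.id_comp _).symm
  | f :: fs => by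
    have h : cechMap g (f :: fs) ≫ mappingCocone.fst _ =
        mappingCocone.fst _ ≫ cechMap g fs := by
      ext q : 1
      exact coconeMap_fst _ _ _ _ _ q
    exact (Category.assoc _ _ _).symm.trans ((congrArg (· ≫ aug N fs) h).trans
      ((Category.assoc _ _ _).trans
        ((congrArg (mappingCocone.fst _ ≫ ·) (aug_natural g fs)).trans
          (Category.assoc _ _ _).symm)))

/-- The degree zero component of the augmentation. -/
noncomputable def ε (M : ModuleCat.{u} R) (fs : List R) : (DerCA.extCech M fs).X 0 →ₗ[R] M :=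
  ((aug M fs).f 0 ≫ (HomologicalComplex.singleObjXSelf (ComplexShape.up ℤ) 0 M).hom).hom

lemma ε_cons (M : ModuleCat.{u} R) (f : R) (fs : List R) (x) :
    ε M (f :: fs) x =
      ε M fs (cf (DerCA.locCxUnit (Submonoid.powers f) (DerCA.extCech M fs)) 0 x) := rfl

lemma ε_bijective (M : ModuleCat.{u} R) : ∀ fs : List R, Function.Bijective (ε M fs)
  | [] => by
    have : ε M [] = (HomologicalComplex.singleObjXSelf (ComplexShape.up ℤ) 0 M).toLinearEquiv.toLinearMap := by
      ext x; rfl
    rw [this]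
    exact LinearEquiv.bijective _
  | f :: fs => by
    let φ := DerCA.locCxUnit (Submonoid.powers f) (DerCA.extCech M fs)
    have := subsingleton_locX (Submonoid.powers f) (subsingleton_X_of_neg M fs (0 + -1) (by omega))
    exact (ε_bijective M fs).comp
      ⟨fun x y h => cocone_ext φ 0 (0 + -1) rfl h (Subsingleton.elim _ _),
        fun k => ⟨mkPair φ 0 (0 + -1) rfl k 0, cf_mkPair φ 0 _ rfl k 0⟩⟩

lemma span_cons (f : R) (fs : List R) :
    Ideal.span {x | x ∈ f :: fs} = Ideal.span {f} ⊔ Ideal.span {x | x ∈ fs} := by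
  rw [← Ideal.span_union]
  congr 1
  ext x
  simp

lemma mem_torsionSub_sup_iff {I I' : Ideal R} {M : Type u} [AddCommGroup M] [Module R M] {x : M} :
    x ∈ DRing.torsionSub (I ⊔ I') M ↔
      x ∈ DRing.torsionSub I M ∧ x ∈ DRing.torsionSub I' M := by
  refine ⟨fun ⟨n, hn⟩ => ⟨⟨n, fun a ha => hn a (Ideal.pow_right_mono le_sup_left n ha)⟩,
    ⟨n, fun a ha => hn a (Ideal.pow_right_mono le_sup_right n ha)⟩⟩, ?_⟩
  rintro ⟨⟨n, hn⟩, ⟨m, hm⟩⟩
  refine ⟨n + m, fun a ha => ?_⟩
  obtain ⟨b, hb, c, hc, rfl⟩ := Submodule.mem_sup.1 (Ideal.sup_pow_add_le_pow_sup_pow ha)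
  rw [add_smul, hn b hb, hm c hc, add_zero]

/-- The cycles of degree zero are the torsion elements. -/
theorem cycle_zero_iff (M : ModuleCat.{u} R) : ∀ (fs : List R) (x : (DerCA.extCech M fs).X 0),
    ((DerCA.extCech M fs).d 0 1).hom x = 0 ↔
      ε M fs x ∈ DRing.torsionSub (Ideal.span {y | y ∈ fs}) M
  | [], x => by
    have := subsingleton_X_nil M 1 one_ne_zero
    refine iff_of_true (Subsingleton.elim _ _) ⟨1, fun a ha => ?_⟩
    simp only [List.not_mem_nil, Set.ofPred_false, Ideal.span_empty, pow_one, Ideal.mem_bot] at ha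
    rw [ha, zero_smul]
  | f :: fs, x => by
    let φ := DerCA.locCxUnit (Submonoid.powers f) (DerCA.extCech M fs)
    rw [span_cons, mem_torsionSub_sup_iff, ε_cons, ← cycle_zero_iff M fs,
      LocalCoh.mem_torsionSub_span]
    have := subsingleton_locX (Submonoid.powers f) (subsingleton_X_of_neg M fs (0 + -1) (by omega))
    constructor
    · intro h
      have h1 := cs_d φ 0 1 (0 + -1) rfl rfl x
      erw [h, map_zero, Subsingleton.elim (cs φ 0 (0 + -1) rfl x) 0, map_zero, sub_zero] at h1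
      obtain ⟨c, ⟨n, rfl⟩, hc⟩ := (locUnit_eq_zero_iff _ (cf φ 0 x)).1 (neg_eq_zero.1 h1.symm)
      refine ⟨⟨n, ?_⟩, ?_⟩
      · rw [← map_smul, hc, map_zero]
      · have h2 := cf_d φ 0 1 x
        erw [h, map_zero] at h2
        exact h2.symm
    · rintro ⟨⟨n, hn⟩, hd⟩
      refine cocone_ext φ 1 0 rfl ?_ ?_
      · erw [cf_d, hd, map_zero]
      · erw [cs_d φ 0 1 (0 + -1) rfl rfl x, Subsingleton.elim (cs φ 0 (0 + -1) rfl x) 0, map_zero,
          map_zero, sub_zero, neg_eq_zero]
        refine (locUnit_eq_zero_iff _ _).2 ⟨_, ⟨n, rfl⟩, (ε_bijective M fs).1 ?_⟩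
        rw [map_smul, map_zero]
        exact hn

end Groth.Agent.Lib.ExtCech
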