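import Groth.Prelude.Def_DerCA
import Mathlib.Algebra.Homology.ShortComplex.ModuleCat

/-!
# Mapping cocones of complexes of modules, elementwise
-/

universe u

open CategoryTheory CategoryTheory.Limits CochainComplex CochainComplex.HomComplex

namespace Groth.Agent.Lib.ExtCech

variable {R : Type u} [CommRing R] {K L : DRing.Cx R} (φ : K ⟶ L)

/-- The coordinate in the source complex. -/
noncomputable def cf (q : ℤ) : (mappingCocone φ).X q →ₗ[R] K.X q :=
  ((mappingCocone.fst φ).f q).hom

/-- The coordinate in the target complex. -/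
noncomputable def cs (q p : ℤ) (h : q + -1 = p) : (mappingCocone φ).X q →ₗ[R] L.X p :=
  ((mappingCocone.snd φ).v q p h).hom

set_option backward.defeqAttrib.useBackward true in
set_option backward.isDefEq.respectTransparency false in
lemma d_snd (i j p : ℤ) (hij : i + 1 = j) (hp : i + -1 = p) :
    (mappingCocone φ).d i j ≫ (mappingCocone.snd φ).v j i (by lia) =
      -(mappingCocone.fst φ).f i ≫ φ.f i - (mappingCocone.snd φ).v i p hp ≫ L.d p i := by
  subst hij hp
  simp [mappingCocone.fst, mappingCocone.snd, mappingCocone,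
    Cochain.leftShift_v (n := 1) _ _ _ _ i i _ (i + -1) (by lia),
    Cochain.leftShift_v _ _ _ _ _ _ _ _ (add_zero (i + -1)),
    Cochain.leftShift_v (n := 0) _ _ _ _ (i + 1) i _ i (by lia),
    mappingCone.d_snd_v φ (i + -1) i (by lia), Int.negOnePow_even 2 ⟨1, rfl⟩]
  abel

lemma cf_d (i j : ℤ) (x : (mappingCocone φ).X i) :
    cf φ j (((mappingCocone φ).d i j).hom x) = (K.d i j).hom (cf φ i x) :=
  (congrArg (fun t => t.hom x) ((mappingCocone.fst φ).comm i j)).symm

lemma cs_d (i j p : ℤ) (hij : i + 1 = j) (hp : i + -1 = p) (x : (mappingCocone φ).X i) :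
    cs φ j i (by lia) (((mappingCocone φ).d i j).hom x) =
      -(φ.f i).hom (cf φ i x) - (L.d p i).hom (cs φ i p hp x) := by
  have := congrArg (fun t => t.hom x) (d_snd φ i j p hij hp)
  simpa [cf, cs] using this

lemma cocone_ext (q p : ℤ) (h : q + -1 = p) {x y : (mappingCocone φ).X q}
    (h₁ : cf φ q x = cf φ q y) (h₂ : cs φ q p h x = cs φ q p h y) : x = y := by
  have hx := congrArg (fun t => t.hom x) (mappingCocone.id_X φ q p h)
  have hy := congrArg (fun t => t.hom y) (mappingCocone.id_X φ q p h)
  simp only [ModuleCat.hom_add, ModuleCat.hom_comp, LinearMap.add_apply, LinearMap.comp_apply,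
    ModuleCat.hom_id, LinearMap.id_apply] at hx hy
  rw [← hx, ← hy]
  change (((mappingCocone.inl φ).v q q _).hom (cf φ q x) + _) =
    (((mappingCocone.inl φ).v q q _).hom (cf φ q y) + _)
  rw [h₁]
  exact congrArg _ (congrArg ((mappingCocone.inr φ).1.v p q (by lia)).hom h₂)

/-- An element with given coordinates. -/
noncomputable def mkPair (q p : ℤ) (h : q + -1 = p) (k : K.X q) (l : L.X p) :
    (mappingCocone φ).X q :=
  ((mappingCocone.inl φ).v q q (add_zero q)).hom k +
    ((mappingCocone.inr φ).1.v p q (by lia)).hom l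

lemma cf_mkPair (q p : ℤ) (h : q + -1 = p) (k : K.X q) (l : L.X p) :
    cf φ q (mkPair φ q p h k l) = k := by
  have h1 := congrArg (fun t => t.hom k) (mappingCocone.inl_v_fst_f φ q)
  have h2 := congrArg (fun t => t.hom l) (mappingCocone.inr_v_fst_f φ p q (by lia))
  simp only [ModuleCat.hom_comp, LinearMap.comp_apply, ModuleCat.hom_id, LinearMap.id_apply] at h1 h2
  rw [mkPair, map_add]
  exact (congrArg₂ (· + ·) h1 h2).trans (add_zero k)

lemma cs_mkPair (q p : ℤ) (h : q + -1 = p) (k : K.X q) (l : L.X p) :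
    cs φ q p h (mkPair φ q p h k l) = l := by
  have h1 := congrArg (fun t => t.hom k) (mappingCocone.inl_v_snd_v φ q p h)
  have h2 := congrArg (fun t => t.hom l) (mappingCocone.inr_v_snd_v φ p q (by lia))
  simp only [ModuleCat.hom_comp, LinearMap.comp_apply, ModuleCat.hom_id, LinearMap.id_apply] at h1 h2
  rw [mkPair, map_add]
  exact (congrArg₂ (· + ·) h1 h2).trans (zero_add l)

section Map

variable {K' L' : DRing.Cx R} (φ' : K' ⟶ L') (a : K ⟶ K') (b : L ⟶ L') (comm : φ ≫ b = a ≫ φ')

lemma coneMap_fst (p q : ℤ) (h : p + 1 = q) :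
    (mappingCone.map φ φ' a b comm).f p ≫ (mappingCone.fst φ').1.v p q h =
      (mappingCone.fst φ).1.v p q h ≫ a.f q := by
  rw [mappingCone.ext_from_iff φ q p h]
  simp [mappingCone.map]

lemma coneMap_snd (p : ℤ) :
    (mappingCone.map φ φ' a b comm).f p ≫ (mappingCone.snd φ').v p p (add_zero p) =
      (mappingCone.snd φ).v p p (add_zero p) ≫ b.f p := by
  rw [mappingCone.ext_from_iff φ (p + 1) p rfl]
  simp [mappingCone.map]

/-- The map of mapping cocones induced by a commutative square. -/
noncomputable def coconeMap : mappingCocone φ ⟶ mappingCocone φ' :=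
  (CategoryTheory.shiftFunctor (DRing.Cx R) (-1 : ℤ)).map (mappingCone.map φ φ' a b comm)

set_option backward.defeqAttrib.useBackward true in
set_option backward.isDefEq.respectTransparency false in
@[reassoc]
lemma coconeMap_fst (q : ℤ) :
    (coconeMap φ φ' a b comm).f q ≫ (mappingCocone.fst φ').f q =
      (mappingCocone.fst φ).f q ≫ a.f q := by
  simp [coconeMap, mappingCocone.fst,
    Cochain.leftShift_v (n := 1) _ _ _ _ q q _ (q + -1) (by lia)]
  exact coneMap_fst φ φ' a b comm (q + -1) q (by lia)

set_option backward.defeqAttrib.useBackward true in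
set_option backward.isDefEq.respectTransparency false in
@[reassoc]
lemma coconeMap_snd (q p : ℤ) (h : q + -1 = p) :
    (coconeMap φ φ' a b comm).f q ≫ (mappingCocone.snd φ').v q p h =
      (mappingCocone.snd φ).v q p h ≫ b.f p := by
  subst h
  simp [coconeMap, mappingCocone.snd,
    Cochain.leftShift_v _ _ _ _ _ _ _ _ (add_zero (q + -1))]
  exact coneMap_snd φ φ' a b comm (q + -1)

lemma cf_coconeMap (q : ℤ) (x : (mappingCocone φ).X q) :
    cf φ' q (((coconeMap φ φ' a b comm).f q).hom x) = (a.f q).hom (cf φ q x) :=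
  congrArg (fun t => t.hom x) (coconeMap_fst φ φ' a b comm q)

lemma cs_coconeMap (q p : ℤ) (h : q + -1 = p) (x : (mappingCocone φ).X q) :
    cs φ' q p h (((coconeMap φ φ' a b comm).f q).hom x) = (b.f p).hom (cs φ q p h x) :=
  congrArg (fun t => t.hom x) (coconeMap_snd φ φ' a b comm q p h)

end Map

end Groth.Agent.Lib.ExtCech
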